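import Mathlib.AlgebraicGeometry.Morphisms.QuasiCompact
import Mathlib.AlgebraicGeometry.Morphisms.UniversallyOpen
import Mathlib.AlgebraicGeometry.PullbackCarrier
import Mathlib.RingTheory.Ideal.MinimalPrime.Localization
import Mathlib.RingTheory.Spectrum.Prime.Topology

/-! # closures of images of quasi-compact morphisms; descent of embeddings along flat covers -/

universe u

open CategoryTheory CategoryTheory.Limits AlgebraicGeometry

namespace Groth.Agent.SubDescent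

lemma exists_specializes_of_mem_closure_image {X Y : Scheme.{u}} (f : X ⟶ Y) [QuasiCompact f]
    {F : Set X} (hF : IsClosed F) {y : Y} (hy : y ∈ closure (f '' F)) :
    ∃ z ∈ F, f z ⤳ y := by
  obtain ⟨_, ⟨U, hU', rfl⟩, hyU, -⟩ :=
    Y.isBasis_affineOpens.exists_subset_of_mem_open (Set.mem_univ y) isOpen_univ
  have hU : IsAffineOpen U := hU'
  have : CompactSpace (f ⁻¹ᵁ U).toScheme :=
    isCompact_iff_compactSpace.mp (f.isCompact_preimage hU.isCompact)
  obtain ⟨R, g, hg⟩ := compactSpace_iff_exists.mp ‹CompactSpace (f ⁻¹ᵁ U).toScheme›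
  let m : Spec R ⟶ Y := g ≫ (f ⁻¹ᵁ U).ι ≫ f
  have hr : Set.range m ⊆ Set.range hU.fromSpec := by
    rintro _ ⟨t, rfl⟩
    rw [hU.range_fromSpec]
    exact (g t).2
  obtain ⟨φ, hφ⟩ : ∃ φ, Spec.map φ ≫ hU.fromSpec = m :=
    ⟨Spec.preimage (IsOpenImmersion.lift hU.fromSpec m hr),
      by rw [Spec.map_preimage, IsOpenImmersion.lift_fac]⟩
  obtain ⟨q, rfl⟩ : y ∈ Set.range hU.fromSpec := by rw [hU.range_fromSpec]; exact hyU
  obtain ⟨I, hI⟩ := (PrimeSpectrum.isClosed_iff_zeroLocus_ideal _).mp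
    (hF.preimage (g ≫ (f ⁻¹ᵁ U).ι).continuous)
  have hq : q ∈ closure (Spec.map φ '' ((g ≫ (f ⁻¹ᵁ U).ι) ⁻¹' F)) := by
    have h1 : q ∈ hU.fromSpec ⁻¹' closure (f '' F) := hy
    rw [hU.fromSpec.isOpenEmbedding.isOpenMap.preimage_closure_eq_closure_preimage
      hU.fromSpec.continuous] at h1
    refine closure_mono ?_ h1
    rintro t ⟨z, hz, hzt⟩
    have hzU : f z ∈ U := by
      rw [hzt]
      exact hU.range_fromSpec.le ⟨t, rfl⟩
    obtain ⟨r, hr'⟩ := hg ⟨z, hzU⟩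
    refine ⟨r, ?_, hU.fromSpec.isOpenEmbedding.injective ?_⟩
    · rw [Set.mem_preimage, Scheme.Hom.comp_apply, hr']
      exact hz
    · rw [← hzt, ← Scheme.Hom.comp_apply, hφ, Scheme.Hom.comp_apply, Scheme.Hom.comp_apply, hr']
      rfl
  have hle : I.comap φ.hom ≤ q.asIdeal := by
    have : Spec.map φ '' ((g ≫ (f ⁻¹ᵁ U).ι) ⁻¹' F) ⊆
        PrimeSpectrum.zeroLocus (I.comap φ.hom : Set Γ(Y, U)) := by
      rintro _ ⟨r, hr', rfl⟩
      exact fun a ha ↦ (hI ▸ hr' : r ∈ PrimeSpectrum.zeroLocus (I : Set R)) ha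
    exact closure_minimal this (PrimeSpectrum.isClosed_zeroLocus _) hq
  have := q.2
  obtain ⟨p₀, hp₀, hp₀q⟩ := Ideal.exists_minimalPrimes_le hle
  obtain ⟨P, hP, hIP, hPp⟩ := Ideal.exists_comap_eq_of_mem_minimalPrimes φ.hom p₀ hp₀
  let r : Spec R := ⟨P, hP⟩
  refine ⟨(g ≫ (f ⁻¹ᵁ U).ι) r,
    (hI ▸ (show r ∈ PrimeSpectrum.zeroLocus (I : Set R) from hIP) :
      r ∈ (g ≫ (f ⁻¹ᵁ U).ι) ⁻¹' F), ?_⟩
  have h1 : Spec.map φ r ⤳ q :=
    (PrimeSpectrum.le_iff_specializes _ _).mp (show (Spec.map φ r).asIdeal ≤ q.asIdeal from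
      hPp.le.trans hp₀q)
  have h2 : hU.fromSpec (Spec.map φ r) ⤳ hU.fromSpec q := h1.map hU.fromSpec.continuous
  rw [← Scheme.Hom.comp_apply, hφ] at h2
  exact h2

theorem isEmbedding_of_flat_descent {X Y Y' : Scheme.{u}} (f : X ⟶ Y) (g : Y' ⟶ Y) [QuasiCompact f]
    [Flat g] [Surjective g] (h : Topology.IsEmbedding (pullback.snd f g).base) :
    Topology.IsEmbedding f.base := by
  have hinj : Function.Injective f.base := fun x₁ x₂ e ↦ by
    obtain ⟨y', hy'⟩ := g.surjective (f x₁)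
    obtain ⟨w₁, hw₁, hw₁'⟩ :=
      Scheme.Pullback.exists_preimage_pullback (f := f) (g := g) x₁ y' hy'.symm
    obtain ⟨w₂, hw₂, hw₂'⟩ :=
      Scheme.Pullback.exists_preimage_pullback (f := f) (g := g) x₂ y' (e.symm.trans hy'.symm)
    rw [← hw₁, ← hw₂, h.injective (hw₁'.trans hw₂'.symm)]
  refine ⟨?_, hinj⟩
  refine (Topology.isInducing_iff_nhds).mpr fun x ↦ le_antisymm
    f.continuous.continuousAt.le_comap ?_
  intro S hS
  obtain ⟨O, hOS, hO, hxO⟩ := mem_nhds_iff.mp hS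
  refine Filter.mem_comap.mpr ⟨(closure (f '' Oᶜ))ᶜ,
    isClosed_closure.isOpen_compl.mem_nhds fun hx ↦ ?_, fun w hw ↦ hOS ?_⟩
  · obtain ⟨z, hz, hzx⟩ := exists_specializes_of_mem_closure_image f hO.isClosed_compl hx
    obtain ⟨y', hy'⟩ := g.surjective (f x)
    obtain ⟨y'', hy''spec, hy''⟩ := Flat.generalizingMap g (show f z ⤳ g y' by rw [hy']; exact hzx)
    obtain ⟨x', hx₁, hx₂⟩ :=
      Scheme.Pullback.exists_preimage_pullback (f := f) (g := g) x y' hy'.symm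
    obtain ⟨z', hz₁, hz₂⟩ :=
      Scheme.Pullback.exists_preimage_pullback (f := f) (g := g) z y'' hy''.symm
    have h1 : z' ⤳ x' := h.isInducing.specializes_iff.mp (by rw [hz₂, hx₂]; exact hy''spec)
    have h2 : z ⤳ x := by
      have := h1.map (pullback.fst f g).continuous
      rwa [hz₁, hx₁] at this
    exact hz (h2.mem_open hO hxO)
  · by_contra hwO
    exact hw (subset_closure ⟨w, hwO, rfl⟩)

end Groth.Agent.SubDescent
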