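import Groth.Agent.SubDescent.EtaleHom
import Mathlib.AlgebraicGeometry.AlgClosed.Basic
import Mathlib.CategoryTheory.Comma.Over.Pullback
import Mathlib.FieldTheory.IsAlgClosed.AlgebraicClosure

/-! # Universally submersive morphisms with geometrically connected fibres -/

universe u

open CategoryTheory AlgebraicGeometry Limits

namespace Groth.Agent.SubDescent

variable {S S' : Scheme.{u}}

/-- geometric connectedness of the fibres -/
def GeomConnFibres (g : S' ⟶ S) : Prop :=
  ∀ (K : Type u) [Field K] [IsAlgClosed K] (ξ : Spec (CommRingCat.of K) ⟶ S),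
    ConnectedSpace ↑(pullback g ξ)

/-- geometric point over a point -/
noncomputable def geomPoint (x : S) :
    Spec (CommRingCat.of (AlgebraicClosure (S.residueField x))) ⟶ S :=
  Spec.map (CommRingCat.ofHom (algebraMap (S.residueField x) (AlgebraicClosure (S.residueField x)))) ≫
    S.fromSpecResidueField x

lemma geomPoint_apply (x : S) (t) : geomPoint x t = x := by
  rw [geomPoint, Scheme.Hom.comp_apply]
  exact Scheme.fromSpecResidueField_apply _ _

lemma isPreconnected_fibre (g : S' ⟶ S) (h : GeomConnFibres g) (s : S) :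
    _root_.IsPreconnected (g.base ⁻¹' {s}) := by
  have := h _ (geomPoint s)
  have : g.base ⁻¹' {s} = Set.range (pullback.fst g (geomPoint s)) := by
    ext x
    constructor
    · intro hx
      obtain ⟨z, hz, -⟩ := Scheme.Pullback.exists_preimage_pullback (f := g) (g := geomPoint s) x
        (IsLocalRing.closedPoint _) ((Set.mem_singleton_iff.mp hx).trans (geomPoint_apply s _).symm)
      exact ⟨z, hz⟩
    · rintro ⟨z, rfl⟩
      change g (pullback.fst g (geomPoint s) z) = s
      rw [← Scheme.Hom.comp_apply, pullback.condition, Scheme.Hom.comp_apply, geomPoint_apply]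
  rw [this]
  exact isPreconnected_range (pullback.fst g (geomPoint s)).continuous

theorem connectedSpace_of_connFibres (g : S' ⟶ S) (hg : SGA1.UnivSubmersive g)
    (h : GeomConnFibres g) [ConnectedSpace S] : ConnectedSpace S' := by
  have hq := isQuotientMap_of_univSubmersive hg (IsPullback.id_horiz g |>.flip)
  have hne : Nonempty S' := by
    obtain ⟨s⟩ := (inferInstance : Nonempty S)
    exact ⟨(hq.surjective s).choose⟩
  refine { toPreconnectedSpace := ?_, toNonempty := hne }
  rw [preconnectedSpace_iff_clopen]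
  intro U hU
  have hsat : g.base ⁻¹' (g.base '' U) = U := by
    refine Set.Subset.antisymm ?_ (Set.subset_preimage_image _ _)
    rintro t ⟨u, hu, hut⟩
    exact (isPreconnected_fibre g h (g u)).subset_isClopen hU ⟨u, rfl, hu⟩ hut.symm
  have hclopen : IsClopen (g.base '' U) :=
    ⟨hq.isClosed_preimage.mp (by rw [hsat]; exact hU.1), hq.isOpen_preimage.mp (by rw [hsat]; exact hU.2)⟩
  rcases isClopen_iff.mp hclopen with h0 | h1
  · exact Or.inl (Set.image_eq_empty.mp h0)
  · exact Or.inr (by rw [← hsat, h1, Set.preimage_univ])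

/-- a map from a connected `K`-scheme to an étale one is constant, `K` algebraically closed -/
lemma exists_eq_comp_point {K : Type u} [Field K] [IsAlgClosed K] {F Z : Scheme.{u}}
    (π : Z ⟶ Spec (CommRingCat.of K)) [Etale π] [ConnectedSpace F] (f : F ⟶ Z) :
    ∃ σ : Spec (CommRingCat.of K) ⟶ Z, f = (f ≫ π) ≫ σ := by
  have : JacobsonSpace Z := LocallyOfFiniteType.jacobsonSpace π
  let ι := {σ : Spec (CommRingCat.of K) ⟶ Z // σ ≫ π = 𝟙 _}
  have hop : ∀ σ : ι, IsOpenImmersion σ.1 := fun σ ↦
    EtaleSections.isOpenImmersion_section π σ.1 σ.2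
  have hcov : ∀ z : Z, ∃ σ : ι, z ∈ Set.range σ.1 := by
    by_contra hne
    push Not at hne
    obtain ⟨z₀, hz₀⟩ := hne
    have hcl : IsClosed (⋃ σ : ι, Set.range σ.1)ᶜ :=
      (isOpen_iUnion fun σ ↦ (hop σ).base_open.isOpen_range).isClosed_compl
    obtain ⟨z, hz, hzc⟩ := nonempty_inter_closedPoints
      (Z := (⋃ σ : ι, Set.range σ.1)ᶜ) ⟨z₀, by simpa using hz₀⟩ hcl.isLocallyClosed
    refine hz (Set.mem_iUnion.mpr ⟨⟨pointOfClosedPoint π z hzc, pointOfClosedPoint_comp π z hzc⟩,
      IsLocalRing.closedPoint K, pointOfClosedPoint_apply π z hzc _⟩)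
  obtain ⟨y₀⟩ := (inferInstance : Nonempty F)
  obtain ⟨σ, hσ⟩ := hcov (f y₀)
  have hrange : ∀ τ : ι, ∀ z ∈ Set.range τ.1, z = τ.1 (IsLocalRing.closedPoint K) := by
    rintro τ _ ⟨t, rfl⟩
    exact congr_arg _ (Subsingleton.elim _ _)
  have hclopen : IsClopen (f.base ⁻¹' Set.range σ.1) := by
    have := hop σ
    refine ⟨⟨?_⟩, σ.1.isOpenEmbedding.isOpen_range.preimage f.continuous⟩
    have : (f.base ⁻¹' Set.range σ.1)ᶜ =
        f.base ⁻¹' ⋃ τ ∈ {τ : ι | Set.range τ.1 ≠ Set.range σ.1}, Set.range τ.1 := by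
      ext y
      simp only [Set.mem_compl_iff, Set.mem_preimage, Set.mem_iUnion, exists_prop, Set.mem_ofPred_eq]
      refine ⟨fun hy ↦ ?_, fun ⟨τ, hτ, hy⟩ hy' ↦ hτ ?_⟩
      · obtain ⟨τ, hτ⟩ := hcov (f y)
        exact ⟨τ, fun e ↦ hy (e ▸ hτ), hτ⟩
      · ext z
        constructor
        · intro hz
          rw [hrange τ z hz, ← hrange τ _ hy]
          exact hy'
        · intro hz
          rw [hrange σ z hz, ← hrange σ _ hy']
          exact hy
    rw [this]
    exact (isOpen_biUnion fun τ _ ↦ (hop τ).base_open.isOpen_range).preimage f.continuous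
  have huniv : f.base ⁻¹' Set.range σ.1 = Set.univ := hclopen.eq_univ ⟨y₀, hσ⟩
  have := hop σ
  have hr : Set.range f ⊆ Set.range σ.1 := by
    rintro _ ⟨y, rfl⟩
    exact huniv.ge (Set.mem_univ y)
  refine ⟨σ.1, ?_⟩
  have h1 : IsOpenImmersion.lift σ.1 f hr = f ≫ π := by
    have := congr_arg (· ≫ π) (IsOpenImmersion.lift_fac σ.1 f hr)
    simp only [Category.assoc, σ.2, Category.comp_id] at this
    exact this
  exact (IsOpenImmersion.lift_fac σ.1 f hr).symm.trans (congr_arg (· ≫ σ.1) h1)

theorem cocycle_of_connFibres (g : S' ⟶ S) (h : GeomConnFibres g) {X Y : Scheme.{u}}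
    (p : X ⟶ S) (q : Y ⟶ S) [Etale q] (ψ : pullback p g ⟶ Y)
    (hψ : ψ ≫ q = pullback.fst p g ≫ p) {T : Scheme.{u}} (t₁ t₂ : T ⟶ pullback p g)
    (ht : t₁ ≫ pullback.fst p g = t₂ ≫ pullback.fst p g) : t₁ ≫ ψ = t₂ ≫ ψ := by
  have hq : (t₁ ≫ ψ) ≫ q = (t₂ ≫ ψ) ≫ q := by
    simp only [Category.assoc, hψ, reassoc_of% ht]
  refine EtaleSections.eq_of_eqLocus_eq_univ q _ _ hq (Set.eq_univ_of_forall fun w ↦ ?_)
  let b := t₁ ≫ pullback.fst p g
  let ξ := geomPoint (b w)
  have : ConnectedSpace ↑(pullback g (ξ ≫ p)) := h _ (ξ ≫ p)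
  -- the fibre of `X ×_S S' ⟶ X` over `ξ`
  let m : pullback g (ξ ≫ p) ⟶ pullback p g :=
    pullback.lift (pullback.snd g (ξ ≫ p) ≫ ξ) (pullback.fst g (ξ ≫ p))
      (by rw [Category.assoc, pullback.condition])
  let f : pullback g (ξ ≫ p) ⟶ pullback q (ξ ≫ p) :=
    pullback.lift (m ≫ ψ) (pullback.snd g (ξ ≫ p))
      (by rw [Category.assoc, hψ, pullback.lift_fst_assoc, Category.assoc])
  obtain ⟨σ, hσ⟩ := exists_eq_comp_point (pullback.snd q (ξ ≫ p)) f
  have hm : m ≫ ψ = pullback.snd g (ξ ≫ p) ≫ σ ≫ pullback.fst q (ξ ≫ p) := by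
    have := congr_arg (· ≫ pullback.fst q (ξ ≫ p)) hσ
    simp only [f, pullback.lift_snd, Category.assoc, pullback.lift_fst] at this
    exact this
  obtain ⟨w', hw', -⟩ := Scheme.Pullback.exists_preimage_pullback (f := b) (g := ξ) w
    (IsLocalRing.closedPoint _) (geomPoint_apply _ _).symm
  refine EtaleSections.range_subset_eqLocus q _ _ hq (pullback.fst b ξ) ?_ ⟨w', hw'⟩
  have key : ∀ t : T ⟶ pullback p g, t ≫ pullback.fst p g = b →
      pullback.fst b ξ ≫ t ≫ ψ = pullback.snd b ξ ≫ σ ≫ pullback.fst q (ξ ≫ p) := by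
    intro t htb
    let l : pullback b ξ ⟶ pullback g (ξ ≫ p) :=
      pullback.lift (pullback.fst b ξ ≫ t ≫ pullback.snd p g) (pullback.snd b ξ)
        (by
          have h1 := congr_arg (fun k => pullback.fst b ξ ≫ k ≫ p) htb
          simp only [Category.assoc] at h1 ⊢
          rw [← pullback.condition, h1, pullback.condition_assoc])
    have hl : l ≫ m = pullback.fst b ξ ≫ t := by
      apply pullback.hom_ext
      · simp only [l, m, Category.assoc, pullback.lift_fst, pullback.lift_snd_assoc, htb]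
        exact pullback.condition.symm
      · simp only [l, m, Category.assoc, pullback.lift_snd, pullback.lift_fst]
    rw [← reassoc_of% hl, hm, pullback.lift_snd_assoc]
  exact (key t₁ rfl).trans (key t₂ ht.symm).symm

theorem bijective_pullback_map_of_connFibres (g : S' ⟶ S) (hg : SGA1.UnivSubmersive g)
    (h : GeomConnFibres g) (X Y : Over S) [Etale Y.hom] :
    Function.Bijective ((Over.pullback g).map : (X ⟶ Y) → _) := by
  have hs : Surjective (pullback.fst X.hom g) := surjective_of_univSubmersive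
    ((MorphismProperty.universally_isStableUnderBaseChange _).of_isPullback
      (IsPullback.of_hasPullback X.hom g).flip hg)
  refine ⟨fun u v e ↦ ?_, fun F ↦ ?_⟩
  · have h1 := congrArg (fun k : (Over.pullback g).obj X ⟶ (Over.pullback g).obj Y =>
      k.left ≫ pullback.fst Y.hom g) e
    simp only [Over.pullback_map_left, pullback.lift_fst] at h1
    exact Over.OverMorphism.ext (EtaleSections.eq_of_surjective Y.hom u.left v.left
      (pullback.fst X.hom g) h1 (by rw [Over.w, Over.w]))
  · have hψ : (F.left ≫ pullback.fst Y.hom g) ≫ Y.hom = pullback.fst X.hom g ≫ X.hom := by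
      have hw : F.left ≫ pullback.snd Y.hom g = pullback.snd X.hom g := Over.w F
      rw [Category.assoc, pullback.condition, ← Category.assoc, hw, ← pullback.condition]
    obtain ⟨u, ⟨hu₁, hu₂⟩, -⟩ := exists_desc_etale g X.hom Y.hom hg (F.left ≫ pullback.fst Y.hom g)
      hψ fun t₁ t₂ ↦ cocycle_of_connFibres g h X.hom Y.hom _ hψ t₁ t₂
    refine ⟨Over.homMk u hu₁, Over.OverMorphism.ext ?_⟩
    apply pullback.hom_ext
    · simp only [Over.pullback_map_left, pullback.lift_fst, Over.homMk_left]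
      exact hu₂
    · simp only [Over.pullback_map_left, pullback.lift_snd]
      exact (Over.w F).symm

end Groth.Agent.SubDescent
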