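import Groth.Agent.SubDescent.Basic
import Groth.Agent.EtaleSections.Basic

/-! # Universally submersive morphisms are descent morphisms for étale schemes -/

universe u

open CategoryTheory AlgebraicGeometry Limits

namespace Groth.Agent.SubDescent

variable {S S' X Y : Scheme.{u}} (g : S' ⟶ S) (p : X ⟶ S) (q : Y ⟶ S)

lemma surjective_of_univSubmersive {g : S' ⟶ S} (hg : SGA1.UnivSubmersive g) : Surjective g :=
  ⟨(isQuotientMap_of_univSubmersive hg (IsPullback.id_horiz g |>.flip)).surjective⟩

theorem exists_desc_etale (hg : SGA1.UnivSubmersive g) [Etale q] (ψ : pullback p g ⟶ Y)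
    (hψ : ψ ≫ q = pullback.fst p g ≫ p)
    (hcoc : ∀ {T : Scheme.{u}} (t₁ t₂ : T ⟶ pullback p g),
      t₁ ≫ pullback.fst p g = t₂ ≫ pullback.fst p g → t₁ ≫ ψ = t₂ ≫ ψ) :
    ∃! u : X ⟶ Y, u ≫ q = p ∧ pullback.fst p g ≫ u = ψ := by
  let a : pullback p g ⟶ X := pullback.fst p g
  have haq : SGA1.UnivSubmersive a :=
    (MorphismProperty.universally_isStableUnderBaseChange _).of_isPullback
      (IsPullback.of_hasPullback p g).flip hg
  have has : Surjective a := surjective_of_univSubmersive haq
  let γ : pullback p g ⟶ pullback (a ≫ p) q :=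
    pullback.lift (𝟙 _) ψ ((Category.id_comp _).trans hψ.symm)
  have hγ : IsOpenImmersion γ := EtaleSections.isOpenImmersion_graph (a ≫ p) q ψ hψ
  let c : pullback (a ≫ p) q ⟶ pullback p q :=
    pullback.map _ _ _ _ a (𝟙 _) (𝟙 _) (Category.comp_id _) (by simp)
  have hc : IsPullback c (pullback.fst (a ≫ p) q) (pullback.fst p q) a := by
    refine IsPullback.of_right (h₁₂ := pullback.snd p q) (v₁₃ := q) (h₂₂ := p) ?_
      (map_fst ..) (IsPullback.of_hasPullback p q).flip
    simpa [c] using (IsPullback.of_hasPullback (a ≫ p) q).flip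
  have hcq : Topology.IsQuotientMap c.base := isQuotientMap_of_univSubmersive haq hc
  have hsat : c.base ⁻¹' Set.range (γ ≫ c) = Set.range γ := by
    refine Set.Subset.antisymm ?_ ?_
    · rintro z ⟨x, hx⟩
      obtain ⟨w, hw₁, hw₂⟩ := Scheme.Pullback.exists_preimage_pullback (f := c) (g := c) z (γ x)
        hx.symm
      let T := (pullback c c).fromSpecResidueField w
      have hr : Set.range (T ≫ pullback.snd c c) ⊆ Set.range γ := by
        rintro _ ⟨s, rfl⟩
        refine ⟨x, ?_⟩
        rw [Scheme.Hom.comp_apply, show T s = w from Scheme.fromSpecResidueField_apply _ _, hw₂]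
      have hlift := IsOpenImmersion.lift_fac γ (T ≫ pullback.snd c c) hr
      let l := IsOpenImmersion.lift γ (T ≫ pullback.snd c c) hr
      have hl₁ : l = T ≫ pullback.snd c c ≫ pullback.fst (a ≫ p) q := by
        have := congr_arg (· ≫ pullback.fst (a ≫ p) q) hlift
        simp only [γ, Category.assoc, pullback.lift_fst, Category.comp_id] at this
        exact this
      have hl₂ : l ≫ ψ = T ≫ pullback.snd c c ≫ pullback.snd (a ≫ p) q := by
        have := congr_arg (· ≫ pullback.snd (a ≫ p) q) hlift
        simp only [γ, Category.assoc, pullback.lift_snd] at this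
        exact this
      have e₁ : (pullback.fst c c ≫ pullback.fst (a ≫ p) q) ≫ a =
          (pullback.snd c c ≫ pullback.fst (a ≫ p) q) ≫ a := by
        have := congr_arg (· ≫ pullback.fst p q) (pullback.condition (f := c) (g := c))
        simpa [c] using this
      have e₂ : pullback.fst c c ≫ pullback.snd (a ≫ p) q =
          pullback.snd c c ≫ pullback.snd (a ≫ p) q := by
        have := congr_arg (· ≫ pullback.snd p q) (pullback.condition (f := c) (g := c))
        simpa [c] using this
      have key : T ≫ pullback.fst c c = (T ≫ pullback.fst c c ≫ pullback.fst (a ≫ p) q) ≫ γ := by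
        apply pullback.hom_ext
        · simp only [γ, Category.assoc, pullback.lift_fst, Category.comp_id]
        · simp only [γ, Category.assoc, pullback.lift_snd]
          rw [e₂, ← hl₂, hl₁, Category.assoc, Category.assoc]
          congr 1
          simpa using (hcoc _ _ e₁).symm
      have := congr($key (IsLocalRing.closedPoint _))
      rw [← hw₁]
      refine ⟨(T ≫ pullback.fst c c ≫ pullback.fst (a ≫ p) q) (IsLocalRing.closedPoint _), ?_⟩
      refine this.symm.trans ?_
      exact congr_arg (pullback.fst c c).base (Scheme.fromSpecResidueField_apply _ _)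
    · rintro _ ⟨x, rfl⟩
      exact ⟨x, rfl⟩
  let Γ : (pullback p q).Opens :=
    ⟨Set.range (γ ≫ c), hcq.isOpen_preimage.mp (by rw [hsat]; exact γ.isOpenEmbedding.isOpen_range)⟩
  let π : (Γ : Scheme.{u}) ⟶ X := Γ.ι ≫ pullback.fst p q
  have hΔ : Surjective (pullback.diagonal π) := by
    constructor
    intro z
    let b := pullback.fst π π ≫ π
    obtain ⟨z', hz'⟩ : ∃ z' : ↥(pullback b a), pullback.fst b a z' = z := by
      obtain ⟨y, hy⟩ := a.surjective (b z)
      obtain ⟨z', h₁, -⟩ := Scheme.Pullback.exists_preimage_pullback (f := b) (g := a) z y hy.symm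
      exact ⟨z', h₁⟩
    have hmk : ∀ (v : pullback b a ⟶ (Γ : Scheme.{u})), v ≫ π = pullback.snd b a ≫ a →
        v ≫ Γ.ι = pullback.snd b a ≫ γ ≫ c := by
      intro v hv
      obtain ⟨d, hd₁, hd₂⟩ : ∃ d : pullback b a ⟶ pullback (a ≫ p) q,
          d ≫ c = v ≫ Γ.ι ∧ d ≫ pullback.fst (a ≫ p) q = pullback.snd b a :=
        ⟨hc.lift (v ≫ Γ.ι) (pullback.snd b a) (by simpa [π] using hv), hc.lift_fst _ _ _,
          hc.lift_snd _ _ _⟩
      have hr : Set.range d ⊆ Set.range γ := by
        rintro _ ⟨s, rfl⟩
        rw [← hsat, Set.mem_preimage, ← Scheme.Hom.comp_apply, hd₁]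
        exact (v s).2
      have hd : d = pullback.snd b a ≫ γ := by
        have h1 := IsOpenImmersion.lift_fac γ d hr
        have h2 : IsOpenImmersion.lift γ d hr = pullback.snd b a := by
          have := congr_arg (· ≫ pullback.fst (a ≫ p) q) h1
          simp only [γ, Category.assoc, pullback.lift_fst, Category.comp_id] at this
          exact this.trans hd₂
        rw [← h1, h2]
      rw [← hd₁, hd, Category.assoc]
    have h₁ := hmk (pullback.fst b a ≫ pullback.fst π π) (by
      rw [Category.assoc]; exact pullback.condition)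
    have h₂ := hmk (pullback.fst b a ≫ pullback.snd π π) (by
      rw [Category.assoc, ← pullback.condition (f := π) (g := π)]
      exact pullback.condition)
    have he : (pullback.fst b a ≫ pullback.fst π π) ≫ pullback.diagonal π = pullback.fst b a := by
      have h₃ : pullback.fst b a ≫ pullback.fst π π = pullback.fst b a ≫ pullback.snd π π := by
        rw [← cancel_mono Γ.ι, h₁, h₂]
      apply pullback.hom_ext
      · simp
      · simp [h₃]
    exact ⟨(pullback.fst b a ≫ pullback.fst π π) z', by rw [← Scheme.Hom.comp_apply, he, hz']⟩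
  have : UniversallyInjective π := (UniversallyInjective.iff_diagonal π).mpr hΔ
  have hπa : ∀ y, (γ ≫ c ≫ pullback.fst p q) y = a y := fun y ↦ by
    rw [show γ ≫ c ≫ pullback.fst p q = a by simp [γ, c, pullback.lift_fst_assoc]]
  have : Surjective π := ⟨fun x ↦ by
    obtain ⟨y, hy⟩ := a.surjective x
    exact ⟨⟨(γ ≫ c) y, y, rfl⟩, (hπa y).trans hy⟩⟩
  refine ⟨EtaleSections.ofGraph p q Γ, ⟨EtaleSections.ofGraph_comp p q Γ, ?_⟩, ?_⟩
  · have key := EtaleSections.eq_of_range_subset p q Γ (γ ≫ c) subset_rfl
    have h1 := congr_arg (· ≫ pullback.snd p q) key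
    have e1 : (γ ≫ c) ≫ pullback.fst p q = a := by simp [γ, c, pullback.lift_fst_assoc]
    have e2 : (γ ≫ c) ≫ pullback.snd p q = ψ := by simp [γ, c, pullback.lift_snd]
    simp only [e1, e2, Category.assoc] at h1
    exact h1.symm
  · rintro u ⟨hu, hua⟩
    refine EtaleSections.eq_of_surjective q u (EtaleSections.ofGraph p q Γ) a ?_
      (hu.trans (EtaleSections.ofGraph_comp p q Γ).symm)
    rw [show a ≫ u = ψ from hua]
    have key := EtaleSections.eq_of_range_subset p q Γ (γ ≫ c) subset_rfl
    have h1 := congr_arg (· ≫ pullback.snd p q) key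
    have e1 : (γ ≫ c) ≫ pullback.fst p q = a := by simp [γ, c, pullback.lift_fst_assoc]
    have e2 : (γ ≫ c) ≫ pullback.snd p q = ψ := by simp [γ, c, pullback.lift_snd]
    simp only [e1, e2, Category.assoc] at h1
    exact h1

end Groth.Agent.SubDescent
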