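import Groth.Prelude.Def_SGA1
import Mathlib.AlgebraicGeometry.PullbackCarrier
import Mathlib.AlgebraicGeometry.Morphisms.UniversallyOpen
import Mathlib.AlgebraicGeometry.Morphisms.UniversallyClosed
import Mathlib.AlgebraicGeometry.Morphisms.Separated
import Mathlib.AlgebraicGeometry.Morphisms.Proper
import Mathlib.AlgebraicGeometry.Morphisms.Immersion

/-! # Descent of topological properties along universally submersive morphisms -/

universe u

open CategoryTheory AlgebraicGeometry Limits

namespace Groth.Agent.SubDescent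

@[reassoc (attr := simp)]
lemma map_fst {W X Y Z S T : Scheme.{u}} (f₁ : W ⟶ S) (f₂ : X ⟶ S) (g₁ : Y ⟶ T) (g₂ : Z ⟶ T)
    (i₁ : W ⟶ Y) (i₂ : X ⟶ Z) (i₃ : S ⟶ T) (e₁ : f₁ ≫ i₃ = i₁ ≫ g₁) (e₂ : f₂ ≫ i₃ = i₂ ≫ g₂) :
    pullback.map f₁ f₂ g₁ g₂ i₁ i₂ i₃ e₁ e₂ ≫ pullback.fst g₁ g₂ = pullback.fst f₁ f₂ ≫ i₁ :=
  pullback.lift_fst _ _ _

@[reassoc (attr := simp)]
lemma map_snd {W X Y Z S T : Scheme.{u}} (f₁ : W ⟶ S) (f₂ : X ⟶ S) (g₁ : Y ⟶ T) (g₂ : Z ⟶ T)
    (i₁ : W ⟶ Y) (i₂ : X ⟶ Z) (i₃ : S ⟶ T) (e₁ : f₁ ≫ i₃ = i₁ ≫ g₁) (e₂ : f₂ ≫ i₃ = i₂ ≫ g₂) :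
    pullback.map f₁ f₂ g₁ g₂ i₁ i₂ i₃ e₁ e₂ ≫ pullback.snd g₁ g₂ = pullback.snd f₁ f₂ ≫ i₂ :=
  pullback.lift_snd _ _ _

variable {X Y X' Y' : Scheme.{u}} {hX : X' ⟶ X} {f' : X' ⟶ Y'} {f : X ⟶ Y} {h : Y' ⟶ Y}

lemma image_preimage (H : IsPullback hX f' f h) (A : Set X) :
    f'.base '' (hX.base ⁻¹' A) = h.base ⁻¹' (f.base '' A) := by
  ext y
  constructor
  · rintro ⟨x, hx, rfl⟩
    exact ⟨hX x, hx, congr($(H.w) x)⟩
  · rintro ⟨a, ha, e⟩
    obtain ⟨x, h₁, h₂⟩ := Scheme.exists_preimage_of_isPullback H a y e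
    exact ⟨x, by rw [Set.mem_preimage, h₁]; exact ha, h₂⟩

lemma isOpenMap_of_isPullback (H : IsPullback hX f' f h) (hq : Topology.IsQuotientMap h.base)
    (hf' : IsOpenMap f'.base) : IsOpenMap f.base := fun A hA ↦ by
  rw [← hq.isOpen_preimage, ← image_preimage H]
  exact hf' _ (hA.preimage hX.continuous)

lemma isClosedMap_of_isPullback (H : IsPullback hX f' f h) (hq : Topology.IsQuotientMap h.base)
    (hf' : IsClosedMap f'.base) : IsClosedMap f.base := fun A hA ↦ by
  rw [← hq.isClosed_preimage, ← image_preimage H]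
  exact hf' _ (hA.preimage hX.continuous)

lemma isQuotientMap_of_univSubmersive {g : Y' ⟶ Y} (hg : SGA1.UnivSubmersive g) {Z Z' : Scheme.{u}}
    {a : Z' ⟶ Y'} {b : Z ⟶ Y} {g' : Z' ⟶ Z} (H : IsPullback g' a b g) :
    Topology.IsQuotientMap g'.base :=
  hg a b g' H

/-- descent of a universal topological property -/
lemma universally_of_isPullback (P : ∀ {α β : Type u} [TopologicalSpace α] [TopologicalSpace β],
      (α → β) → Prop)
    (hP : ∀ {X Y X' Y' : Scheme.{u}} {hX : X' ⟶ X} {f' : X' ⟶ Y'} {f : X ⟶ Y} {h : Y' ⟶ Y},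
      IsPullback hX f' f h → Topology.IsQuotientMap h.base → P f'.base → P f.base)
    (H : IsPullback hX f' f h) (hh : SGA1.UnivSubmersive h)
    (hf' : MorphismProperty.universally (topologically P) f') :
    MorphismProperty.universally (topologically P) f := by
  intro Xz Z i₁ i₂ fz hsq
  -- `Z' = Z ×_Y Y'`, `Xz' = Xz ×_Z Z'`
  have h1 : IsPullback (pullback.fst fz (pullback.fst i₂ h)) (pullback.snd fz (pullback.fst i₂ h))
      fz (pullback.fst i₂ h) := IsPullback.of_hasPullback _ _
  have hq : Topology.IsQuotientMap (pullback.fst i₂ h).base :=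
    isQuotientMap_of_univSubmersive hh (IsPullback.of_hasPullback i₂ h)
  refine hP h1 hq ?_
  have hcomb : IsPullback (pullback.fst fz (pullback.fst i₂ h) ≫ i₁)
      (pullback.snd fz (pullback.fst i₂ h)) f (pullback.fst i₂ h ≫ i₂) :=
    h1.paste_horiz hsq.flip
  let c : pullback fz (pullback.fst i₂ h) ⟶ X' :=
    H.lift (pullback.fst fz (pullback.fst i₂ h) ≫ i₁)
      (pullback.snd fz (pullback.fst i₂ h) ≫ pullback.snd i₂ h) (by
        rw [hcomb.w, Category.assoc, ← pullback.condition])
  have hc : IsPullback c (pullback.snd fz (pullback.fst i₂ h)) f' (pullback.snd i₂ h) := by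
    refine IsPullback.of_right ?_ (H.lift_snd _ _ _) H
    rw [H.lift_fst, ← pullback.condition]
    exact hcomb
  exact hf' _ _ _ hc.flip

lemma universallyClosed_of_isPullback (H : IsPullback hX f' f h) (hh : SGA1.UnivSubmersive h)
    [hf' : UniversallyClosed f'] : UniversallyClosed f :=
  ⟨universally_of_isPullback @IsClosedMap (fun H hq ↦ isClosedMap_of_isPullback H hq) H hh
    hf'.universally_isClosedMap⟩

lemma universallyOpen_of_isPullback (H : IsPullback hX f' f h) (hh : SGA1.UnivSubmersive h)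
    [hf' : UniversallyOpen f'] : UniversallyOpen f :=
  ⟨universally_of_isPullback @IsOpenMap (fun H hq ↦ isOpenMap_of_isPullback H hq) H hh
    hf'.universally_isOpenMap⟩

/-- base change square of diagonals -/
lemma isPullback_diagonal (H : IsPullback hX f' f h) :
    IsPullback hX (pullback.diagonal f') (pullback.diagonal f)
      (pullback.map f' f' f f hX hX h H.w.symm H.w.symm) := by
  have w : hX ≫ pullback.diagonal f =
      pullback.diagonal f' ≫ pullback.map f' f' f f hX hX h H.w.symm H.w.symm := by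
    apply pullback.hom_ext <;>
      simp
  have key : ∀ s : PullbackCone (pullback.diagonal f)
      (pullback.map f' f' f f hX hX h H.w.symm H.w.symm),
      s.fst = s.snd ≫ pullback.fst f' f' ≫ hX ∧ s.fst = s.snd ≫ pullback.snd f' f' ≫ hX ∧
      s.snd ≫ pullback.fst f' f' = s.snd ≫ pullback.snd f' f' := by
    intro s
    have a1 : s.fst = s.snd ≫ pullback.fst f' f' ≫ hX := by
      have := congr_arg (· ≫ pullback.fst f f) s.condition
      simpa using this
    have a2 : s.fst = s.snd ≫ pullback.snd f' f' ≫ hX := by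
      have := congr_arg (· ≫ pullback.snd f f) s.condition
      simpa using this
    refine ⟨a1, a2, H.hom_ext ?_ ?_⟩
    · rw [Category.assoc, Category.assoc, ← a1, ← a2]
    · rw [Category.assoc, Category.assoc, pullback.condition]
  refine ⟨⟨w⟩, ⟨PullbackCone.IsLimit.mk w (fun s ↦ s.snd ≫ pullback.fst f' f')
    (fun s ↦ by rw [Category.assoc]; exact (key s).1.symm) (fun s ↦ ?_) fun s m _ hm ↦ ?_⟩⟩
  · apply pullback.hom_ext <;> simp [(key s).2.2]
  · rw [← hm]; simp

lemma isSeparated_of_isPullback (H : IsPullback hX f' f h) (hh : SGA1.UnivSubmersive h)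
    [IsSeparated f'] : IsSeparated f := by
  have hd := isPullback_diagonal H
  have hm : Topology.IsQuotientMap (pullback.map f' f' f f hX hX h H.w.symm H.w.symm).base := by
    have h1 : IsPullback (pullback.map f' f' f f hX hX h H.w.symm H.w.symm)
        (pullback.fst f' f' ≫ f') (pullback.fst f f ≫ f) h := by
      have w : pullback.map f' f' f f hX hX h H.w.symm H.w.symm ≫ pullback.fst f f ≫ f =
          (pullback.fst f' f' ≫ f') ≫ h := by
        simp [H.w]
      have e1 : ∀ s : PullbackCone (pullback.fst f f ≫ f) h,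
          (s.fst ≫ pullback.fst f f) ≫ f = s.snd ≫ h := fun s ↦ by
        rw [Category.assoc]; exact s.condition
      have e2 : ∀ s : PullbackCone (pullback.fst f f ≫ f) h,
          (s.fst ≫ pullback.snd f f) ≫ f = s.snd ≫ h := fun s ↦ by
        rw [Category.assoc, ← pullback.condition]; exact s.condition
      refine ⟨⟨w⟩, ⟨PullbackCone.IsLimit.mk w
        (fun s ↦ pullback.lift (H.lift _ _ (e1 s)) (H.lift _ _ (e2 s)) (by simp))
        (fun s ↦ by
          apply pullback.hom_ext
          · rw [Category.assoc, map_fst, pullback.lift_fst_assoc, H.lift_fst]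
          · rw [Category.assoc, map_snd, pullback.lift_snd_assoc, H.lift_fst])
        (fun s ↦ by rw [pullback.lift_fst_assoc, H.lift_snd])
        fun s m hm₁ hm₂ ↦ ?_⟩⟩
      apply pullback.hom_ext
      · simp only [pullback.lift_fst]
        apply H.hom_ext
        · simp [← hm₁]
        · simp [← hm₂]
      · simp only [pullback.lift_snd]
        apply H.hom_ext
        · simp [← hm₁]
        · simp [← hm₂, pullback.condition]
    exact isQuotientMap_of_univSubmersive hh h1
  have hcl : IsClosedMap (pullback.diagonal f').base :=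
    (pullback.diagonal f').isClosedEmbedding.isClosedMap
  exact ⟨IsClosedImmersion.of_isPreimmersion _
    (isClosedMap_of_isPullback hd hm hcl).isClosed_range⟩

end Groth.Agent.SubDescent
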